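import Cfsg.Agent.LocalEven48.S3Amalgam.Main
import Cfsg.Agent.LocalStructure.FrakH
import Cfsg.Agent.LocalEvenBasic.CardLattice
import Cfsg.Agent.Small.Dihedral
import Cfsg.Agent.S3755
import Mathlib.GroupTheory.GroupAction.Primitive

/-!
# Suborbits of length three (Sims, Wong)

If the stabilizer of a point of a finite primitive group has an orbit of length 3 then it is one of
`C₃`, `S₃`, `D₁₂`, `S₄`, `S₄ × 2`.  The subgroup generated by the odd order elements of the two
point stabilizer is normal in both point stabilizers, so this stabilizer is a 2-group; then the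
`S₃` amalgam classification applies.
-/

set_option autoImplicit false
set_option maxHeartbeats 800000
set_option linter.unusedSectionVars false

namespace CfsgLib.CubicSuborbit

open Cfsg CfsgLib.LocalStructure

/-- The possible point stabilizers. -/
def Shape (H : Type*) [Group H] : Prop :=
  Nonempty (H ≃* Multiplicative (ZMod 3)) ∨ Nonempty (H ≃* Equiv.Perm (Fin 3)) ∨
    Nonempty (H ≃* DihedralGroup 6) ∨ Nonempty (H ≃* Equiv.Perm (Fin 4)) ∨
    Nonempty (H ≃* Equiv.Perm (Fin 4) × Multiplicative (ZMod 2))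

section Index3

variable {G : Type*} [Group G] [Finite G]

theorem exists_perm_hom {K : Type*} [Group K] [Finite K] (T : Subgroup K) (h : T.index = 3) :
    ∃ ψ : K →* Equiv.Perm (Fin 3), ψ.ker = T.normalCore ∧ 3 ∣ Nat.card ψ.range ∧
      ∀ x ∈ T, ψ x ^ 2 = 1 := by
  obtain ⟨e⟩ : Nonempty (K ⧸ T ≃ Fin 3) :=
    ⟨(Finite.equivFin _).trans (finCongr (by rw [← Subgroup.index_eq_card, h]))⟩
  refine ⟨e.permCongrHom.toMonoidHom.comp (MulAction.toPermHom K (K ⧸ T)), ?_, ?_, ?_⟩
  · rw [Subgroup.normalCore_eq_ker]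
    ext z
    rw [MonoidHom.mem_ker, MonoidHom.mem_ker, MonoidHom.comp_apply]
    exact e.permCongrHom.map_eq_one_iff
  · have hk : (e.permCongrHom.toMonoidHom.comp (MulAction.toPermHom K (K ⧸ T))).ker ≤ T := by
      intro z hz
      rw [MonoidHom.mem_ker, MonoidHom.comp_apply] at hz
      have h1 : z ∈ T.normalCore := by
        rw [Subgroup.normalCore_eq_ker, MonoidHom.mem_ker]
        exact e.permCongrHom.map_eq_one_iff.1 hz
      exact Subgroup.normalCore_le T h1
    have h4 := Subgroup.index_dvd_of_le hk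
    rw [Subgroup.index_ker] at h4
    exact (dvd_of_eq h.symm).trans h4
  · intro x hx
    have key : ∀ (σ : Equiv.Perm (Fin 3)) (i : Fin 3), σ i = i → σ ^ 2 = 1 := by decide
    refine key _ (e ((1 : K) : K ⧸ T)) ?_
    show e (x • e.symm (e ((1 : K) : K ⧸ T))) = e ((1 : K) : K ⧸ T)
    rw [Equiv.symm_apply_apply]
    congr 1
    rw [MulAction.Quotient.smul_coe, smul_eq_mul, mul_one, QuotientGroup.eq, mul_one]
    exact inv_mem hx

/-- The subgroup generated by the odd order elements of `T`. -/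
def oddPart (T : Subgroup G) : Subgroup G := Subgroup.closure {x | x ∈ T ∧ Odd (orderOf x)}

theorem oddPart_le (T : Subgroup G) : oddPart T ≤ T := (Subgroup.closure_le _).2 fun _ h => h.1

theorem le_normalizer_oddPart {H T : Subgroup G} (hTH : T ≤ H) (h : T.relIndex H = 3) :
    H ≤ Subgroup.normalizer (oddPart T : Set G) := by
  obtain ⟨ψ, hker, -, hsq⟩ := exists_perm_hom (T.subgroupOf H) h
  have key : ∀ g ∈ H, ∀ z ∈ oddPart T, g * z * g⁻¹ ∈ oddPart T := by
    intro g hg z hz
    rw [oddPart] at hz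
    induction hz using Subgroup.closure_induction with
    | mem x hx =>
      have hxk : (⟨x, hTH hx.1⟩ : H) ∈ (T.subgroupOf H).normalCore := by
        rw [← hker, MonoidHom.mem_ker]
        obtain ⟨t, ht⟩ := hx.2
        have h1 : ψ ⟨x, hTH hx.1⟩ ^ orderOf x = 1 := by
          rw [← map_pow, show (⟨x, hTH hx.1⟩ : H) ^ orderOf x = 1 from
            Subtype.ext (pow_orderOf_eq_one x), map_one]
        have h2 : ψ ⟨x, hTH hx.1⟩ ^ (2 * t + 1) = 1 := by rw [← ht]; exact h1
        rwa [pow_succ, pow_mul, hsq _ (Subgroup.mem_subgroupOf.2 hx.1), one_pow, one_mul] at h2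
      refine Subgroup.subset_closure ⟨?_, ?_⟩
      · exact Subgroup.mem_subgroupOf.1 (Subgroup.normalCore_le (T.subgroupOf H)
          ((Subgroup.normalCore_normal (T.subgroupOf H)).conj_mem _ hxk ⟨g, hg⟩))
      · rw [show g * x * g⁻¹ = MulAut.conj g x from rfl, MulEquiv.orderOf_eq]
        exact hx.2
    | one => rw [mul_one, mul_inv_cancel]; exact one_mem _
    | mul x y _ _ hx hy =>
      rw [show g * (x * y) * g⁻¹ = g * x * g⁻¹ * (g * y * g⁻¹) by group]
      exact mul_mem hx hy
    | inv x _ hx =>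
      rw [show g * x⁻¹ * g⁻¹ = (g * x * g⁻¹)⁻¹ by group]
      exact inv_mem hx
  intro g hg
  rw [Subgroup.mem_normalizer_iff]
  refine fun z => ⟨key g hg z, fun hz => ?_⟩
  have := key g⁻¹ (inv_mem hg) _ hz
  rwa [show g⁻¹ * (g * z * g⁻¹) * g⁻¹⁻¹ = z by group] at this

theorem isPGroup_two_of_oddPart {T : Subgroup G} (h : oddPart T = ⊥) : IsPGroup 2 T := by
  refine IsPGroup.of_card (n := (Nat.card T).primeFactorsList.length)
    (Nat.eq_prime_pow_of_unique_prime_dvd Nat.card_pos.ne' fun {p} hp hdvd => ?_)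
  by_contra hp2
  haveI := Fact.mk hp
  obtain ⟨x, hx⟩ := exists_prime_orderOf_dvd_card' (G := T) p hdvd
  have h1 : (x : G) ∈ oddPart T :=
    Subgroup.subset_closure ⟨x.2, by rw [Subgroup.orderOf_coe, hx]; exact hp.odd_of_ne_two hp2⟩
  rw [h, Subgroup.mem_bot] at h1
  rw [show x = 1 from Subtype.ext h1, orderOf_one] at hx
  exact hp.ne_one hx.symm

/-- For a Sylow 2-subgroup `T` of index 3: normal, or the quotient by `O₂` is `S₃`. -/
theorem normal_or_perm_three {H T : Subgroup G} (hTH : T ≤ H) (h : T.relIndex H = 3)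
    (hT : IsPGroup 2 T) :
    H ≤ Subgroup.normalizer (T : Set G) ∨
      (Nonempty (↥H ⧸ pCore 2 ↥H ≃* Equiv.Perm (Fin 3)) ∧
        ¬ H ≤ Subgroup.normalizer (T : Set G)) := by
  haveI : Fact (Nat.Prime 2) := ⟨Nat.prime_two⟩
  by_cases hN : H ≤ Subgroup.normalizer (T : Set G)
  · exact Or.inl hN
  refine Or.inr ⟨?_, hN⟩
  obtain ⟨ψ, hker, h3, -⟩ := exists_perm_hom (T.subgroupOf H) h
  have hT' : IsPGroup 2 (T.subgroupOf H) := hT.of_equiv (Subgroup.subgroupOfEquivOfLe hTH).symm
  have hcore : pCore 2 ↥H = ψ.ker := by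
    refine le_antisymm ?_ ?_
    · rw [hker]
      haveI : (pCore 2 ↥H).Normal := pCore_normal
      refine Subgroup.normal_le_normalCore.2 ?_
      exact sSup_le fun N hN => haveI := hN.1; IsPGroup.le_sylow_of_normal hN.2
        (hT'.toSylow (by show ¬ 2 ∣ (T.subgroupOf H).index; rw [show (T.subgroupOf H).index = 3 from h]; norm_num))
    · refine le_pCore (hN := ψ.normal_ker) ?_
      rw [hker]
      exact hT'.to_le (Subgroup.normalCore_le _)
  have h6 : Nat.card ψ.range ∣ 6 := by
    have := Subgroup.card_subgroup_dvd_card ψ.range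
    rwa [Nat.card_perm, Nat.card_fin, show Nat.factorial 3 = 6 from rfl] at this
  have hsurj : Function.Surjective ψ := by
    rw [← MonoidHom.range_eq_top]
    refine Subgroup.eq_top_of_card_eq _ ?_
    rw [Nat.card_perm, Nat.card_fin, show Nat.factorial 3 = 6 from rfl]
    have hle := Nat.le_of_dvd (by norm_num) h6
    interval_cases hc : Nat.card ψ.range <;> try omega
    exfalso
    refine hN ((Subgroup.normal_subgroupOf_iff_le_normalizer hTH).1 ?_)
    have h1 : (T.subgroupOf H).normalCore = T.subgroupOf H := by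
      refine Subgroup.eq_of_le_of_card_ge (Subgroup.normalCore_le _) ?_
      have h2 := Subgroup.card_mul_index ψ.ker
      rw [Subgroup.index_ker, hc, hker, ← Subgroup.card_mul_index (T.subgroupOf H),
        show (T.subgroupOf H).index = 3 from h] at h2
      omega
    rw [← h1]
    infer_instance
  haveI : (pCore 2 ↥H).Normal := pCore_normal
  exact ⟨(QuotientGroup.quotientMulEquivOfEq hcore).trans
    (QuotientGroup.quotientKerEquivOfSurjective ψ hsurj)⟩

theorem normal_conj {H T : Subgroup G} (g : G) (h : H ≤ Subgroup.normalizer (T : Set G))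
    (hTH : T ≤ H) (hT : IsPGroup 2 T) (hTJ : T ≤ conjS g H) (hJ : T.relIndex (conjS g H) = 3) :
    conjS g H ≤ Subgroup.normalizer (T : Set G) := by
  haveI : Fact (Nat.Prime 2) := ⟨Nat.prime_two⟩
  have hle : conjS g T ≤ conjS g H := conjS_mono hTH
  have hn : conjS g H ≤ Subgroup.normalizer (conjS g T : Set G) :=
    (conjS_mono h).trans (normalizer_conjS g T).ge
  have hsyl := (hT.of_equiv (Subgroup.subgroupOfEquivOfLe hTJ).symm).toSylow
    (by show ¬ 2 ∣ (T.subgroupOf (conjS g H)).index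
        rw [show (T.subgroupOf (conjS g H)).index = 3 from hJ]; norm_num)
  haveI := (Subgroup.normal_subgroupOf_iff_le_normalizer hle).2 hn
  have h1 : conjS g T ≤ T := by
    intro z hz
    have h2 := IsPGroup.le_sylow_of_normal (N := (conjS g T).subgroupOf (conjS g H))
      ((hT.map _).of_equiv (Subgroup.subgroupOfEquivOfLe hle).symm)
      ((hT.of_equiv (Subgroup.subgroupOfEquivOfLe hTJ).symm).toSylow
        (by show ¬ 2 ∣ (T.subgroupOf (conjS g H)).index
            rw [show (T.subgroupOf (conjS g H)).index = 3 from hJ]; norm_num))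
      (Subgroup.mem_subgroupOf.2 hz : (⟨z, hle hz⟩ : conjS g H) ∈ _)
    exact Subgroup.mem_subgroupOf.1 h2
  rwa [Subgroup.eq_of_le_of_card_ge h1
    (Subgroup.card_map_of_injective (MulAut.conj g).injective).ge] at hn

theorem mem_of_half {A B : Subgroup G} (hle : A ≤ B) (hc : Nat.card B = 2 * Nat.card A)
    {z : G} (hz : z ∈ B) : z * z ∈ A := by
  have hi : (A.subgroupOf B).index = 2 := by
    have h1 := CfsgLib.LocalEvenBasic.card_mul_relIndex_of_le A B hle
    rw [hc, mul_comm 2] at h1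
    exact Nat.eq_of_mul_eq_mul_left Nat.card_pos h1
  exact Subgroup.mem_subgroupOf.1
    ((Subgroup.mul_mem_iff_of_index_two hi (a := (⟨z, hz⟩ : B)) (b := ⟨z, hz⟩)).2 Iff.rfl)

/-- The case that `H` does not act faithfully on `O₂(H)`. -/
theorem small_case {H T : Subgroup G} {y : G} (hgen : H ⊔ conjS y H = ⊤)
    (hcore : ∀ N : Subgroup G, N.Normal → N ≤ T → N = ⊥) (hTH : T ≤ H) (hyT : conjS y T = T)
    (hidx : T.relIndex H = 3) (hT : IsPGroup 2 T)
    (e : ↥H ⧸ pCore 2 ↥H ≃* Equiv.Perm (Fin 3))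
    (hc : ¬ H ⊓ Subgroup.centralizer (pCoreOf 2 H : Set G) ≤ pCoreOf 2 H) : Shape ↥H := by
  haveI : Fact (Nat.Prime 2) := ⟨Nat.prime_two⟩
  haveI : Fact (Nat.Prime 3) := ⟨Nat.prime_three⟩
  haveI : (pCore 2 ↥H).Normal := pCore_normal
  set K := pCoreOf 2 H with hK
  have hKH : K ≤ H := pCoreOf_le H
  have hKn : H ≤ Subgroup.normalizer (K : Set G) := le_normalizer_pCoreOf H
  have hKT : K ≤ T := by
    have h1 : pCore 2 ↥H ≤ T.subgroupOf H :=
      sSup_le fun N hN => haveI := hN.1; IsPGroup.le_sylow_of_normal hN.2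
        ((hT.of_equiv (Subgroup.subgroupOfEquivOfLe hTH).symm).toSylow
          (by show ¬ 2 ∣ (T.subgroupOf H).index
              rw [show (T.subgroupOf H).index = 3 from hidx]; norm_num))
    rintro z ⟨w, hw, rfl⟩
    exact Subgroup.mem_subgroupOf.1 (h1 hw)
  have hcard : Nat.card H = 3 * Nat.card T := by
    have h1 := CfsgLib.LocalEvenBasic.card_mul_relIndex_of_le T H hTH
    rw [hidx] at h1
    omega
  have hcardK : Nat.card T = 2 * Nat.card K := by
    have h2 : Nat.card K = Nat.card (pCore 2 ↥H) :=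
      Subgroup.card_map_of_injective H.subtype_injective
    have h3 := (pCore 2 ↥H).index_mul_card
    rw [Subgroup.index, Nat.card_congr e.toEquiv, Nat.card_perm, Nat.card_fin,
      show Nat.factorial 3 = 6 from rfl, ← h2, hcard] at h3
    omega
  -- an element of order 3 centralizing `K`
  obtain ⟨d, hdH, hd3, hdK⟩ : ∃ d ∈ H, orderOf d = 3 ∧ ∀ z ∈ K, Commute d z := by
    set C := H ⊓ Subgroup.centralizer (K : Set G)
    have h3 : 3 ∣ Nat.card C := by
      by_contra h3
      refine hc (le_pCoreOf inf_le_left (le_normalizer_inf' Subgroup.le_normalizer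
        (hKn.trans (normalizer_le_normalizer_centralizer _))) ?_)
      obtain ⟨k, hk⟩ := IsPGroup.iff_card.1 hT
      have h1 := Subgroup.card_dvd_of_le (inf_le_left : C ≤ H)
      rw [hcard, hk] at h1
      obtain ⟨j, -, hj⟩ := (Nat.dvd_prime_pow Nat.prime_two).1
        (((Nat.Prime.coprime_iff_not_dvd Nat.prime_three).2 h3).symm.dvd_of_dvd_mul_left h1)
      exact IsPGroup.of_card hj
    obtain ⟨d, hd⟩ := exists_prime_orderOf_dvd_card' (G := C) 3 h3
    exact ⟨d, d.2.1, by rw [Subgroup.orderOf_coe, hd],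
      fun z hz => ((Subgroup.mem_centralizer_iff.1 d.2.2) z hz).symm⟩
  have hgenH : T ⊔ Subgroup.zpowers d = H := by
    refine Subgroup.eq_of_le_of_card_ge (sup_le hTH (Subgroup.zpowers_le.2 hdH)) ?_
    obtain ⟨k, hk⟩ := IsPGroup.iff_card.1 hT
    have h1 := Subgroup.card_dvd_of_le (le_sup_left : T ≤ T ⊔ Subgroup.zpowers d)
    have h2 := Subgroup.card_dvd_of_le (le_sup_right : Subgroup.zpowers d ≤ T ⊔ Subgroup.zpowers d)
    rw [Nat.card_zpowers, hd3] at h2
    rw [hk] at h1
    rw [hcard, hk, mul_comm]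
    exact Nat.le_of_dvd Nat.card_pos
      ((Nat.Coprime.pow_left k (by norm_num)).mul_dvd_of_dvd_of_dvd h1 h2)
  have hlift : ∀ N : Subgroup G, N ≤ K → T ≤ Subgroup.normalizer (N : Set G) →
      H ≤ Subgroup.normalizer (N : Set G) := by
    intro N hNK hTN
    rw [← hgenH, sup_le_iff, Subgroup.zpowers_le]
    refine ⟨hTN, Subgroup.centralizer_le_normalizer _ ?_⟩
    rw [Subgroup.mem_centralizer_iff]
    exact fun z hz => (hdK z (hNK hz)).eq.symm
  have hboth : ∀ N : Subgroup G, N ≤ T → H ≤ Subgroup.normalizer (N : Set G) →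
      conjS y H ≤ Subgroup.normalizer (N : Set G) → N = ⊥ := fun N hNT h1 h2 =>
    hcore N (Subgroup.normalizer_eq_top_iff.1 (top_le_iff.1 (hgen.ge.trans (sup_le h1 h2)))) hNT
  -- `T` is elementary abelian
  have hsq : ∀ x ∈ T, x * x = 1 := by
    set N := Subgroup.closure {w | ∃ x ∈ T, w = x * x} with hN
    have hNK : N ≤ K := by
      rw [hN, Subgroup.closure_le]
      rintro _ ⟨x, hx, rfl⟩
      exact mem_of_half hKT hcardK hx
    have hTN : T ≤ Subgroup.normalizer (N : Set G) := by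
      have key : ∀ t ∈ T, ∀ z ∈ N, t * z * t⁻¹ ∈ N := by
        intro t ht z hz
        rw [hN] at hz
        induction hz using Subgroup.closure_induction with
        | mem w hw =>
          obtain ⟨x, hx, rfl⟩ := hw
          exact Subgroup.subset_closure ⟨t * x * t⁻¹, mul_mem (mul_mem ht hx) (inv_mem ht), by group⟩
        | one => rw [mul_one, mul_inv_cancel]; exact one_mem _
        | mul a b _ _ ha hb =>
          rw [show t * (a * b) * t⁻¹ = t * a * t⁻¹ * (t * b * t⁻¹) by group]
          exact mul_mem ha hb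
        | inv a _ ha =>
          rw [show t * a⁻¹ * t⁻¹ = (t * a * t⁻¹)⁻¹ by group]
          exact inv_mem ha
      intro t ht
      rw [Subgroup.mem_normalizer_iff]
      refine fun z => ⟨key t ht z, fun hz => ?_⟩
      have := key t⁻¹ (inv_mem ht) _ hz
      rwa [show t⁻¹ * (t * z * t⁻¹) * t⁻¹⁻¹ = z by group] at this
    have hyN : conjS y N = N := by
      rw [hN, conjS, MonoidHom.map_closure]
      congr 1
      ext w
      constructor
      · rintro ⟨_, ⟨x, hx, rfl⟩, rfl⟩
        exact ⟨MulAut.conj y x, hyT.le ⟨x, hx, rfl⟩, map_mul _ _ _⟩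
      · rintro ⟨x, hx, rfl⟩
        obtain ⟨u, hu, rfl⟩ := hyT.ge hx
        exact ⟨u * u, ⟨u, hu, rfl⟩, map_mul _ _ _⟩
    have hbot : N = ⊥ := hboth N (hNK.trans hKT) (hlift N hNK hTN) (by
      have h1 := conjS_mono (g := y) (hlift N hNK hTN)
      rwa [← normalizer_conjS, hyN] at h1)
    exact fun x hx => Subgroup.mem_bot.1 (hbot ▸ Subgroup.subset_closure ⟨x, hx, rfl⟩)
  have hcomm : ∀ x ∈ T, ∀ z ∈ T, x * z = z * x := by
    intro x hx z hz
    have hi : ∀ w ∈ T, w⁻¹ = w := fun w hw => inv_eq_of_mul_eq_one_right (hsq w hw)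
    calc x * z = (x * z)⁻¹ := (hi _ (mul_mem hx hz)).symm
      _ = z * x := by rw [mul_inv_rev, hi z hz, hi x hx]
  have hHK : H ≤ Subgroup.centralizer (K : Set G) := by
    rw [← hgenH, sup_le_iff, Subgroup.zpowers_le]
    exact ⟨fun t ht => Subgroup.mem_centralizer_iff.2 fun z hz => hcomm z (hKT hz) t ht,
      Subgroup.mem_centralizer_iff.2 fun z hz => (hdK z hz).eq.symm⟩
  -- `|K| ≤ 2`
  have hK2 : Nat.card K ≤ 2 := by
    have hbot : K ⊓ conjS y K = ⊥ := by
      refine hboth _ (inf_le_left.trans hKT) ?_ ?_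
      · exact (hHK.trans (Subgroup.centralizer_le inf_le_left)).trans
          (Subgroup.centralizer_le_normalizer _)
      · refine (LE.le.trans ?_ (Subgroup.centralizer_le inf_le_right)).trans
          (Subgroup.centralizer_le_normalizer _)
        show conjS y H ≤ Subgroup.centralizer ((conjS y K : Subgroup G) : Set G)
        rw [centralizer_conjS]
        exact conjS_mono hHK
    have h2 := CfsgLib.LocalEvenBasic.card_mul_le_inf_mul_sup K (conjS y K)
    rw [hbot, Subgroup.card_bot, one_mul,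
      Subgroup.card_map_of_injective (MulAut.conj y).injective] at h2
    have h3 := Subgroup.card_le_of_le (sup_le hKT ((conjS_mono hKT).trans hyT.le))
    rw [hcardK] at h3
    exact Nat.le_of_mul_le_mul_right (h2.trans h3) Nat.card_pos
  have hcardP : Nat.card (pCore 2 ↥H) = Nat.card K :=
    (Subgroup.card_map_of_injective H.subtype_injective).symm
  rcases (show Nat.card K = 1 ∨ Nat.card K = 2 by have := Nat.card_pos (α := K); omega) with h1 | h1
  · exact Or.inr (Or.inl ⟨(QuotientGroup.quotientBot (G := ↥H)).symm.trans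
      ((QuotientGroup.quotientMulEquivOfEq
        (Subgroup.eq_bot_of_card_eq _ (hcardP.trans h1)).symm).trans e)⟩)
  -- `|K| = 2`
  obtain ⟨⟨k, hk⟩, hk1⟩ : ∃ k : K, k ≠ 1 :=
    Subgroup.ne_bot_iff_exists_ne_one.1 fun hb => by rw [hb, Subgroup.card_bot] at h1; omega
  have hk1' : k ≠ 1 := fun h => hk1 (Subtype.ext h)
  have hkk : k * k = 1 := hsq k (hKT hk)
  obtain ⟨t, htT, htK⟩ := SetLike.not_le_iff_exists.1 (show ¬ T ≤ K from fun hle => by
    have := Subgroup.card_le_of_le hle; omega)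
  have htt : t * t = 1 := hsq t htT
  have htk : t * k = k * t := hcomm t htT k (hKT hk)
  have hdk : d * k = k * d := hdK k hk
  -- `t` inverts `d`
  obtain ⟨φ, hφ⟩ : ∃ φ : ↥H →* Equiv.Perm (Fin 3),
      φ = e.toMonoidHom.comp (QuotientGroup.mk' (pCore 2 ↥H)) := ⟨_, rfl⟩
  have hφ1 : ∀ z : H, φ z = 1 → (z : G) ∈ K := fun z hz => by
    rw [hφ, MonoidHom.comp_apply] at hz
    exact ⟨z, (QuotientGroup.eq_one_iff z).1 (e.map_eq_one_iff.1 hz), rfl⟩
  have hinv : t * d * t = d⁻¹ := by
    have key : ∀ σ τ : Equiv.Perm (Fin 3), σ * σ = 1 → σ ≠ 1 → τ ^ 3 = 1 → τ ≠ 1 →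
        σ * τ * σ * τ = 1 := by decide
    have h2 := key (φ ⟨t, hTH htT⟩) (φ ⟨d, hdH⟩)
      (by rw [← map_mul, show (⟨t, hTH htT⟩ : H) * ⟨t, hTH htT⟩ = 1 from Subtype.ext htt, map_one])
      (fun h => htK (hφ1 _ h))
      (by rw [← map_pow, show (⟨d, hdH⟩ : H) ^ 3 = 1 from
            Subtype.ext (by simp [← hd3, pow_orderOf_eq_one]), map_one])
      (fun h => by
        have h3 := orderOf_dvd_of_pow_eq_one (n := 2)
          (show d ^ 2 = 1 by rw [pow_two]; exact hsq d (hKT (hφ1 _ h)))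
        rw [hd3] at h3
        norm_num at h3)
    rw [← map_mul, ← map_mul, ← map_mul] at h2
    have hq := hφ1 _ h2
    obtain ⟨q, hq, hqe⟩ : ∃ q ∈ K, q = t * d * t * d := ⟨_, hq, rfl⟩
    have h3 : t * d * t = q * d⁻¹ := by rw [hqe, mul_inv_cancel_right]
    have h4 : (q * d⁻¹) ^ 3 = 1 := by
      rw [← h3, show t * d * t = t * d * t⁻¹ by rw [inv_eq_of_mul_eq_one_right htt],
        conj_pow, ← hd3, pow_orderOf_eq_one, mul_one, mul_inv_cancel]
    rw [((hdK q hq).symm.inv_right).mul_pow, inv_pow, ← hd3, pow_orderOf_eq_one, hd3, inv_one,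
      mul_one, pow_succ, pow_two, hsq q (hKT hq), one_mul] at h4
    rwa [h4, one_mul] at h3
  have ho2 : ∀ {z : G}, z * z = 1 → z ≠ 1 → orderOf z = 2 := fun h h' =>
    orderOf_eq_prime (by rw [pow_two, h]) h'
  have hwo : orderOf (k * d) = 6 := by
    rw [Commute.orderOf_mul_eq_mul_orderOf_of_coprime hdk.symm
      (by rw [ho2 hkk hk1', hd3]; norm_num), ho2 hkk hk1', hd3]
  have htw : t * (k * d) * (t * (k * d)) = 1 := by
    calc t * (k * d) * (t * (k * d)) = t * k * d * (t * k) * d := by group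
      _ = k * t * d * (t * k) * d := by rw [htk]
      _ = k * (t * d * t) * (k * d) := by group
      _ = k * d⁻¹ * (d * k) := by rw [hinv, hdk]
      _ = 1 := by rw [mul_assoc, inv_mul_cancel_left, hkk]
  have ht1 : t ≠ 1 := fun h => htK (h ▸ one_mem K)
  have htw1 : t * (k * d) ≠ 1 := fun h => by
    have h2 := congrArg orderOf (eq_inv_of_mul_eq_one_right h)
    rw [orderOf_inv, hwo, ho2 htt ht1] at h2
    omega
  have hne : t ≠ t * (k * d) := fun h => by
    have h2 := congrArg orderOf (left_eq_mul.1 h : k * d = 1)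
    rw [hwo, orderOf_one] at h2
    omega
  have he12 := Small.closurePairEquivDihedral (ho2 htt ht1) (ho2 htw htw1) hne
  rw [← mul_assoc t t, htt, one_mul, hwo] at he12
  have heq : Subgroup.closure ({t, t * (k * d)} : Set G) = H := by
    refine Subgroup.eq_of_le_of_card_ge ((Subgroup.closure_le _).2 ?_) ?_
    · rintro z (rfl | rfl)
      exacts [hTH htT, mul_mem (hTH htT) (mul_mem (hKH hk) hdH)]
    · rw [Nat.card_congr he12.toEquiv, DihedralGroup.nat_card, hcard, hcardK, h1]
  exact Or.inr (Or.inr (Or.inl ⟨(MulEquiv.subgroupCongr heq).symm.trans he12⟩))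

/-- The group theoretic statement. -/
theorem main_group {H : Subgroup G} (g : G) (hgen : H ⊔ conjS g H = ⊤)
    (hcore : ∀ N : Subgroup G, N.Normal → N ≤ H → N = ⊥)
    (hidx : (H ⊓ conjS g H).relIndex H = 3) : Shape ↥H := by
  haveI : Fact (Nat.Prime 2) := ⟨Nat.prime_two⟩
  haveI : Fact (Nat.Prime 3) := ⟨Nat.prime_three⟩
  obtain ⟨T, hTdef⟩ : ∃ T, T = H ⊓ conjS g H := ⟨_, rfl⟩
  rw [← hTdef] at hidx
  have hTH : T ≤ H := hTdef ▸ inf_le_left
  have hTJ : T ≤ conjS g H := hTdef ▸ inf_le_right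
  have hcJ : Nat.card ↥(conjS g H) = Nat.card H :=
    Subgroup.card_map_of_injective (MulAut.conj g).injective
  have hcard : Nat.card T * 3 = Nat.card H := by
    rw [← hidx]; exact CfsgLib.LocalEvenBasic.card_mul_relIndex_of_le T H hTH
  have hidxJ : T.relIndex (conjS g H) = 3 := by
    have h2 := CfsgLib.LocalEvenBasic.card_mul_relIndex_of_le T _ hTJ
    rw [hcJ, ← hcard] at h2
    exact Nat.eq_of_mul_eq_mul_left Nat.card_pos h2
  have hboth : ∀ N : Subgroup G, N ≤ T → H ≤ Subgroup.normalizer (N : Set G) →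
      conjS g H ≤ Subgroup.normalizer (N : Set G) → N = ⊥ := fun N hNT h1 h2 =>
    hcore N (Subgroup.normalizer_eq_top_iff.1 (top_le_iff.1 (hgen.ge.trans (sup_le h1 h2))))
      (hNT.trans hTH)
  have hT : IsPGroup 2 T := isPGroup_two_of_oddPart (hboth _ (oddPart_le T)
    (le_normalizer_oddPart hTH hidx) (le_normalizer_oddPart hTJ hidxJ))
  have hthree : H ≤ Subgroup.normalizer (T : Set G) → Shape ↥H := fun hN => by
    have hb := hboth T le_rfl hN (normal_conj g hN hTH hT hTJ hidxJ)
    rw [hb, Subgroup.card_bot, one_mul] at hcard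
    exact Or.inl ⟨mulEquivOfPrimeCardEq (p := 3) hcard.symm (by simp)⟩
  rcases normal_or_perm_three hTH hidx hT with hN | ⟨⟨e⟩, hNH⟩
  · exact hthree hN
  -- `y`
  have hsylH : ∀ U : Subgroup G, U ≤ H → IsPGroup 2 U → Nat.card U = Nat.card T →
      ¬ 2 ∣ (U.subgroupOf H).index := by
    intro U hU _ hUc
    have h1 := CfsgLib.LocalEvenBasic.card_mul_relIndex_of_le U H hU
    rw [← hcard, hUc] at h1
    show ¬ 2 ∣ U.relIndex H
    rw [Nat.eq_of_mul_eq_mul_left Nat.card_pos h1]
    norm_num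
  have hU : conjS g⁻¹ T ≤ H := by
    have := conjS_mono (g := g⁻¹) hTJ
    rwa [conjS_conjS, inv_mul_cancel, conjS_one] at this
  have hUp : IsPGroup 2 ↥(conjS g⁻¹ T) := hT.map _
  obtain ⟨⟨z, hz⟩, hzz⟩ := MulAction.exists_smul_eq ↥H
    ((hT.of_equiv (Subgroup.subgroupOfEquivOfLe hTH).symm).toSylow (hsylH T hTH hT rfl))
    ((hUp.of_equiv (Subgroup.subgroupOfEquivOfLe hU).symm).toSylow
      (hsylH _ hU hUp (Subgroup.card_map_of_injective (MulAut.conj g⁻¹).injective)))
  have hzT : conjS z T = conjS g⁻¹ T := by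
    refine Subgroup.eq_of_le_of_card_ge ?_ (le_of_eq ?_)
    · rintro _ ⟨w, hw, rfl⟩
      have h1 : (⟨z, hz⟩ : H) * ⟨w, hTH hw⟩ * (⟨z, hz⟩ : H)⁻¹ ∈
          (conjS g⁻¹ T).subgroupOf H := by
        have h2 : (⟨z, hz⟩ : H) * ⟨w, hTH hw⟩ * (⟨z, hz⟩ : H)⁻¹ ∈
            ((hUp.of_equiv (Subgroup.subgroupOfEquivOfLe hU).symm).toSylow
              (hsylH _ hU hUp (Subgroup.card_map_of_injective (MulAut.conj g⁻¹).injective)) :
              Subgroup ↥H) := by
          rw [← hzz, Sylow.coe_subgroup_smul]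
          exact Subgroup.smul_mem_pointwise_smul _ _ _ (Subgroup.mem_subgroupOf.2 hw)
        exact h2
      exact Subgroup.mem_subgroupOf.1 h1
    · exact (Subgroup.card_map_of_injective (MulAut.conj g⁻¹).injective).trans
        (Subgroup.card_map_of_injective (MulAut.conj z).injective).symm
  obtain ⟨y, hy⟩ : ∃ y, y = g * z := ⟨_, rfl⟩
  have hyT : conjS y T = T := by
    rw [hy, ← conjS_conjS, hzT, conjS_conjS, mul_inv_cancel, conjS_one]
  have hyH : conjS y H = conjS g H := by
    rw [hy, ← conjS_conjS]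
    congr 1
    refine Subgroup.eq_of_le_of_card_ge ?_
      (Subgroup.card_map_of_injective (MulAut.conj z).injective).ge
    rintro _ ⟨w, hw, rfl⟩
    exact mul_mem (mul_mem hz hw) (inv_mem hz)
  by_cases hc : H ⊓ Subgroup.centralizer (pCoreOf 2 H : Set G) ≤ pCoreOf 2 H
  swap
  · exact small_case (by rw [hyH]; exact hgen) (fun N hN hNT => hcore N hN (hNT.trans hTH)) hTH hyT
      hidx hT e hc
  -- the amalgam
  have hTne : T ≠ ⊥ := fun h => hNH (h ▸ (Subgroup.normalizer_eq_top_iff.2
    (inferInstance : (⊥ : Subgroup G).Normal)).ge.trans' le_top)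
  obtain ⟨Z, hZ⟩ : ∃ Z, Z = omegaOne 2 (T ⊓ Subgroup.centralizer (T : Set G)) := ⟨_, rfl⟩
  have hZT : Z ≤ T := by
    rw [hZ]
    exact (CfsgLib.LocalEven.omegaOne_le _).trans inf_le_left
  have hZne : Z ≠ ⊥ := by
    haveI : Nontrivial T := (Subgroup.nontrivial_iff_ne_bot T).2 hTne
    have := hT.center_nontrivial
    obtain ⟨w, hw⟩ := IsPGroup.exists_card_eq (hT.to_subgroup (Subgroup.center T))
    have h2 : 2 ∣ Nat.card (Subgroup.center T) := by
      rw [hw]
      refine dvd_pow_self 2 fun h0 => ?_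
      rw [h0, pow_zero] at hw
      exact (Finite.one_lt_card_iff_nontrivial.2 this).ne' hw
    obtain ⟨u, hu⟩ := exists_prime_orderOf_dvd_card' (G := Subgroup.center T) 2 h2
    intro hb
    have hmem : ((u : T) : G) ∈ Z := by
      rw [hZ]
      refine Subgroup.subset_closure ⟨⟨(u : T).2, Subgroup.mem_centralizer_iff.2 fun z hz =>
        congrArg Subtype.val (Subgroup.mem_center_iff.1 u.2 ⟨z, hz⟩)⟩, ?_⟩
      rw [← hu]
      exact congrArg (fun v : Subgroup.center T => ((v : T) : G)) (pow_orderOf_eq_one u)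
    rw [hb, Subgroup.mem_bot] at hmem
    rw [show u = 1 from Subtype.ext (Subtype.ext hmem), orderOf_one] at hu
    omega
  have hyZ : conjS y Z = Z := by
    rw [hZ]
    refine Subgroup.eq_of_le_of_card_ge ?_
      (Subgroup.card_map_of_injective (MulAut.conj y).injective).ge
    rw [omegaOne, conjS, MonoidHom.map_closure, Subgroup.closure_le]
    rintro _ ⟨w, ⟨⟨hw1, hw2⟩, hw3⟩, rfl⟩
    refine Subgroup.subset_closure ⟨⟨hyT.le ⟨w, hw1, rfl⟩, ?_⟩, by rw [← map_pow, hw3, map_one]⟩
    refine Subgroup.mem_centralizer_iff.2 fun u hu => ?_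
    obtain ⟨v, hv, rfl⟩ := hyT.ge hu
    exact (map_mul _ _ _).symm.trans ((congrArg _
      (Subgroup.mem_centralizer_iff.1 hw2 v hv)).trans (map_mul _ _ _))
  have hZc : ¬ H ≤ Subgroup.centralizer (Z : Set G) := by
    intro h1
    refine hZne (hboth Z hZT (h1.trans (Subgroup.centralizer_le_normalizer _)) ?_)
    rw [← hyH]
    refine LE.le.trans ?_ (Subgroup.centralizer_le_normalizer _)
    rw [← hyZ, centralizer_conjS]
    exact conjS_mono h1
  have hsyl : ∀ P : Subgroup G, T ≤ P → T.relIndex P = 3 →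
      ∃ S : Sylow 2 ↥P, (S : Subgroup ↥P) = T.subgroupOf P := fun P hTP h3 =>
    ⟨(hT.of_equiv (Subgroup.subgroupOfEquivOfLe hTP).symm).toSylow
      (by show ¬ 2 ∣ (T.subgroupOf P).index
          rw [show (T.subgroupOf P).index = 3 from h3]; norm_num), rfl⟩
  have hres := CfsgLib.LocalEven48.S3Amalgam.classification hgen T hTdef
    (by
      intro P hP
      rcases hP with hP | hP <;> rw [hP]
      · exact hc
      · rw [pCoreOf_conjS, centralizer_conjS, ← Subgroup.map_inf _ _ _ (MulAut.conj g).injective]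
        exact conjS_mono hc)
    (by
      intro P hP
      rcases hP with hP | hP <;> rw [hP]
      exacts [hsyl H hTH hidx, hsyl _ hTJ hidxJ])
    (fun N hN hNT => hcore N hN (hNT.trans hTH))
    (by
      intro P hP
      rcases hP with hP | hP <;> rw [hP]
      · exact ⟨e⟩
      · rcases normal_or_perm_three hTJ hidxJ hT with hNJ | ⟨he, -⟩
        · refine absurd ?_ hNH
          have h2 := normal_conj (G := G) (H := conjS g H) g⁻¹ hNJ hTJ hT
            (by rw [conjS_conjS, inv_mul_cancel, conjS_one]; exact hTH)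
            (by rw [conjS_conjS, inv_mul_cancel, conjS_one]; exact hidx)
          rwa [conjS_conjS, inv_mul_cancel, conjS_one] at h2
        · exact he)
    (by
      intro P hP
      rcases hP with hP | hP <;> rw [hP, ← hZ]
      · exact hZc
      · intro h1
        refine hZc ?_
        rw [← hyH, ← hyZ, centralizer_conjS] at h1
        exact (Subgroup.map_le_map_iff_of_injective (MulAut.conj y).injective).1 h1)
  rcases hres with ⟨⟨a⟩, -⟩ | ⟨⟨a⟩, -⟩
  · exact Or.inr (Or.inr (Or.inr (Or.inl ⟨a⟩)))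
  · exact Or.inr (Or.inr (Or.inr (Or.inr ⟨a.trans MulEquiv.prodComm⟩)))

end Index3

/-- The primitive group statement. -/
theorem main {G Ω : Type*} [Group G] [Finite G] [MulAction G Ω] [FaithfulSMul G Ω]
    (hprim : MulAction.IsPreprimitive G Ω) (a b : Ω)
    (h3 : Nat.card (MulAction.orbit (MulAction.stabilizer G a) b) = 3) :
    Shape ↥(MulAction.stabilizer G a) := by
  haveI := hprim
  have hfix : ¬ MulAction.stabilizer G a ≤ MulAction.stabilizer G b := by
    intro hle
    haveI : Subsingleton (MulAction.orbit (MulAction.stabilizer G a) b) := ⟨by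
      rintro ⟨_, s, rfl⟩ ⟨_, t, rfl⟩
      exact Subtype.ext ((hle s.2).trans (hle t.2).symm)⟩
    have := Finite.card_le_one_iff_subsingleton.2 ‹Subsingleton (MulAction.orbit (MulAction.stabilizer G a) b)›
    omega
  have hab : a ≠ b := fun h => hfix (by rw [h])
  haveI : Nontrivial Ω := ⟨⟨a, b, hab⟩⟩
  obtain ⟨g, hg⟩ := MulAction.exists_smul_eq G a b
  have hJ : conjS g (MulAction.stabilizer G a) = MulAction.stabilizer G b := by
    rw [← hg, MulAction.stabilizer_smul_eq_stabilizer_map_conj]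
  refine main_group g ?_ ?_ ?_
  · refine ((MulAction.isCoatom_stabilizer_iff_preprimitive G a).2 hprim).2 _
      (lt_of_le_of_ne le_sup_left fun h => hfix ?_)
    rw [← hJ]
    refine (Subgroup.eq_of_le_of_card_ge (le_sup_right.trans h.ge) ?_).ge
    exact (Subgroup.card_map_of_injective (MulAut.conj g).injective).ge
  · intro N hN hNa
    rw [eq_bot_iff]
    intro n hn
    rw [Subgroup.mem_bot]
    refine eq_of_smul_eq_smul (α := Ω) fun x => ?_
    obtain ⟨u, rfl⟩ := MulAction.exists_smul_eq G a x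
    have h1 : (u⁻¹ * n * u) • a = a := hNa (by simpa using hN.conj_mem n hn u⁻¹)
    rw [one_smul]
    calc n • u • a = u • (u⁻¹ * n * u) • a := by simp [smul_smul, mul_assoc]
      _ = u • a := by rw [h1]
  · rw [hJ, Subgroup.inf_relIndex_left]
    show ((MulAction.stabilizer G b).subgroupOf (MulAction.stabilizer G a)).index = 3
    rw [show (MulAction.stabilizer G b).subgroupOf (MulAction.stabilizer G a) =
      MulAction.stabilizer (MulAction.stabilizer G a) b from Subgroup.ext fun _ => Iff.rfl,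
      Subgroup.index_eq_card, ← Nat.card_congr (MulAction.orbitEquivQuotientStabilizer _ b)]
    exact h3

end CfsgLib.CubicSuborbit
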